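import Cfsg.Agent.TE.Tools
import Cfsg.Agent.S0225

set_option autoImplicit false
set_option linter.unusedVariables false
set_option linter.unusedSectionVars false

namespace Cfsg.Agent.TE

open Subgroup MulAction
open scoped commutatorElement
open Cfsg.Agent.H42 (SylIn cj mem_cj conj_mem_cj conj_mem_cj_iff cj_cj cj_inv_cj cj_cj_inv)
open Cfsg.Agent.H44 (QS Oppof)
open Cfsg.Agent.SUZ (Rank2)
open Cfsg.Agent.COMP (Two)

universe u v

variable {G : Type u} {Ω : Type v} [Group G] [Finite G] [MulAction G Ω]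

omit [MulAction G Ω] in
theorem mind_odd (Q : Subgroup G) : Odd (Nat.card (Oppof 2 Q)) :=
  Nat.coprime_two_right.1 (H44.pPrimeCoreOf_coprime Q)

omit [MulAction G Ω] in
theorem mind_le {Q N : Subgroup G} (hle : N ≤ Q) (hn : Q ≤ normalizer (N : Set G))
    (ho : Odd (Nat.card N)) : N ≤ Oppof 2 Q :=
  H44.le_pPrimeCoreOf hle hn (Nat.coprime_two_right.2 ho)

omit [MulAction G Ω] in
theorem mind_norm (Q : Subgroup G) :
    normalizer (Q : Set G) ≤ normalizer ((Oppof 2 Q : Subgroup G) : Set G) :=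
  H44.normalizer_le_normalizer_pPrimeCoreOf Q

omit [Finite G] [MulAction G Ω] in
theorem mind_perf {V O : Subgroup G} (hn : V ≤ normalizer (O : Set G)) (hs : Group.IsSolvable V)
    (h : V ≤ ⁅V, V⁆ ⊔ O) : V ≤ O := by
  have := normal_subgroupOf_of_le_normalizer hn
  by_contra hne
  obtain ⟨v, hv, hvO⟩ := SetLike.not_le_iff_exists.1 hne
  have : Nontrivial (V ⧸ O.subgroupOf V) := ⟨⟨((⟨v, hv⟩ : V) : V ⧸ O.subgroupOf V), 1, fun e =>
    hvO (mem_subgroupOf.1 ((QuotientGroup.eq_one_iff _).1 e))⟩⟩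
  refine (Group.IsSolvable.commutator_lt_top_of_nontrivial (V ⧸ O.subgroupOf V)).ne ?_
  rw [eq_top_iff]
  rintro y -
  obtain ⟨x, rfl⟩ := QuotientGroup.mk_surjective y
  obtain ⟨c, hc, o, ho, e⟩ :=
    H42.exists_mul_of_mem_sup ((commutator_le_self V).trans hn) (h x.2)
  rw [← map_subtype_commutator] at hc
  obtain ⟨c', hc', rfl⟩ := hc
  have e' : (x : V ⧸ O.subgroupOf V) = (c' : V ⧸ O.subgroupOf V) := by
    rw [eq_comm, QuotientGroup.eq, mem_subgroupOf]
    have : ((c'⁻¹ * x : V) : G) = o := by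
      simp only [coe_mul, coe_inv, e, coe_subtype]; group
    rw [this]; exact ho
  rw [e']
  have := mem_map_of_mem (QuotientGroup.mk' (O.subgroupOf V)) hc'
  rw [commutator_def, map_commutator] at this
  exact commutator_mono le_top le_top this

omit [Finite G] [MulAction G Ω] in
theorem mind_rank2 {V : Subgroup G} {E : Subgroup V} (h : IsKleinFour E) : Rank2 V := by
  classical
  have hc := h.card_four
  have : Finite E := Nat.finite_of_card_ne_zero (by omega)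
  have := Fintype.ofFinite E
  have sq : ∀ x : E, ((x : V) : G) * ((x : V) : G) = 1 := fun x => by
    have := congrArg (fun y : E => ((y : V) : G)) (IsKleinFour.mul_self x)
    simpa using this
  obtain ⟨x, hx⟩ : ∃ x : E, x ∉ ({1} : Finset E) := by
    by_contra hh
    push Not at hh
    have := Finset.card_le_card (show Finset.univ ⊆ ({1} : Finset E) from fun x _ => hh x)
    rw [Finset.card_univ, ← Nat.card_eq_fintype_card, hc] at this
    simp at this
  obtain ⟨y, hy⟩ : ∃ y : E, y ∉ ({1, x} : Finset E) := by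
    by_contra hh
    push Not at hh
    have := (Finset.card_le_card (show Finset.univ ⊆ ({1, x} : Finset E) from fun x _ => hh x)).trans
      Finset.card_le_two
    rw [Finset.card_univ, ← Nat.card_eq_fintype_card, hc] at this
    omega
  simp only [Finset.mem_insert, Finset.mem_singleton, not_or] at hx hy
  have inj : ∀ a b : E, ((a : V) : G) = ((b : V) : G) → a = b := fun a b e =>
    Subtype.ext (Subtype.ext e)
  refine ⟨_, (x : V).2, _, (y : V).2, fun e => hx (inj _ _ e), fun e => hy.1 (inj _ _ e),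
    fun e => hy.2 (inj _ _ e).symm, sq x, sq y, ?_⟩
  have h1 := COMP.inv_of_sq (show ((x : V) : G) * ((y : V) : G) * (((x : V) : G) * ((y : V) : G)) = 1
    from sq (x * y))
  rw [mul_inv_rev, COMP.inv_of_sq (sq x), COMP.inv_of_sq (sq y)] at h1
  exact h1.symm

omit [MulAction G Ω] in
/-- S0225 inside `V`. -/
theorem mind_bs {V : Subgroup G} {d : G} (hd : d ∈ V) (hi : Iv d) (h : ¬ Rank2 V) :
    ∃ z ∈ V, Iv z ∧ ∀ x ∈ V, ⁅z, x⁆ ∈ Oppof 2 V := by
  have hev : Even (Nat.card V) := by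
    rw [even_iff_two_dvd, ← hi.ord]
    exact Subgroup.orderOf_dvd_natCard V hd
  obtain ⟨z, hz, N, hN, ho, hc⟩ := S0225.result hev fun E hE => h (mind_rank2 hE)
  refine ⟨z, z.2, iv_of_ord (by rw [orderOf_coe]; exact hz), fun x hx => ?_⟩
  have hle : N.map V.subtype ≤ Oppof 2 V := by
    refine mind_le (map_subtype_le _) ?_ (by rw [card_subtype]; exact ho)
    rw [le_normalizer_iff]
    rintro g hg _ ⟨n, hn, rfl⟩
    exact ⟨_, hN.conj_mem n hn ⟨g, hg⟩, rfl⟩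
  exact hle ⟨_, hc ⟨x, hx⟩, rfl⟩

/-- The elements of `V` with square in `O`. -/
def mind_sq (V O : Subgroup G) (hn : V ≤ normalizer (O : Set G))
    (hc : ∀ x ∈ V, ∀ y ∈ V, ⁅x, y⁆ ∈ O) : Subgroup G where
  carrier := {v | v ∈ V ∧ v * v ∈ O}
  one_mem' := ⟨one_mem _, by simp⟩
  mul_mem' := fun {a b} ha hb => ⟨V.mul_mem ha.1 hb.1, by
    have e : a * b * (a * b) = a * a * ⁅a⁻¹, b⁆ * (b * b) := by
      simp only [commutatorElement_def]; group
    rw [e]; exact mul_mem (mul_mem ha.2 (hc _ (V.inv_mem ha.1) _ hb.1)) hb.2⟩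
  inv_mem' := fun {a} ha => ⟨V.inv_mem ha.1, by rw [← mul_inv_rev]; exact inv_mem ha.2⟩

omit [MulAction G Ω] in
/-- Minimal `H`-invariant subgroup above `O = O(Q)`. -/
theorem min_dich {H Q M : Subgroup G} (hQ : Q ≤ H) (hn : H ≤ normalizer (Q : Set G)) (hM : M ≤ Q)
    (hnM : H ≤ normalizer (M : Set G)) (hev : ∃ d ∈ M, Iv d) :
    ∃ V, Oppof 2 Q ≤ V ∧ V ≤ M ⊔ Oppof 2 Q ∧ (∃ d ∈ V, Iv d) ∧ H ≤ normalizer (V : Set G) ∧
      (∀ W, Oppof 2 Q ≤ W → W ≤ V → H ≤ normalizer (W : Set G) → W = Oppof 2 Q ∨ W = V) ∧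
      ((¬ Group.IsSolvable V ∧ Rank2 V) ∨ ∀ v ∈ V, v * v ∈ Oppof 2 Q) := by
  have hO := mind_odd Q
  have hnO : H ≤ normalizer ((Oppof 2 Q : Subgroup G) : Set G) := hn.trans (mind_norm Q)
  have niv : ∀ d, Iv d → d ∉ Oppof 2 Q := fun d hd h => hd.2 (two_odd_eq_one hO h hd.two)
  obtain ⟨V, ⟨h1, h2, h3⟩, hmin⟩ := (wellFounded_lt (α := Subgroup G)).has_min
    {V | Oppof 2 Q < V ∧ V ≤ M ⊔ Oppof 2 Q ∧ H ≤ normalizer (V : Set G)}
    ⟨M ⊔ Oppof 2 Q, by
      obtain ⟨d, hd, hi⟩ := hev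
      exact ⟨lt_of_le_of_ne le_sup_right fun e => niv d hi (e ▸ mem_sup_left hd), le_rfl,
        (le_inf hnM hnO).trans (normalizer_inf_normalizer_le_normalizer_sup _ _)⟩⟩
  have hVQ : V ≤ Q := h2.trans (sup_le hM (H44.Oppof_le Q))
  have hVO : V ≤ normalizer ((Oppof 2 Q : Subgroup G) : Set G) := (hVQ.trans hQ).trans hnO
  have hm : ∀ W, Oppof 2 Q ≤ W → W ≤ V → H ≤ normalizer (W : Set G) → W = Oppof 2 Q ∨ W = V :=
    fun W a b c => by
      by_contra hh
      push Not at hh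
      exact hmin W ⟨lt_of_le_of_ne a hh.1.symm, b.trans h2, c⟩ (lt_of_le_of_ne b hh.2)
  obtain ⟨d, hd, hi⟩ : ∃ d ∈ V, Iv d := by
    by_contra hh
    exact h1.not_ge (mind_le hVQ (hQ.trans h3)
      (odd_of_no_iv fun x hx e => by_contra fun e' => hh ⟨x, hx, e, e'⟩))
  refine ⟨V, h1.le, h2, ⟨d, hd, hi⟩, h3, hm, ?_⟩
  by_cases hc : ∀ x ∈ V, ∀ y ∈ V, ⁅x, y⁆ ∈ Oppof 2 Q
  · right
    rcases hm (mind_sq V _ hVO hc) (fun o ho => ⟨h1.le ho, mul_mem ho ho⟩) (fun _ h => h.1)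
      (le_normalizer_iff.2 fun g hg x hx => ⟨COMP.conj_mem (h3 hg) hx.1, by
        have e : g * x * g⁻¹ * (g * x * g⁻¹) = g * (x * x) * g⁻¹ := by group
        rw [e]; exact COMP.conj_mem (hnO hg) hx.2⟩) with e | e
    · exact absurd (e ▸ (⟨hd, by rw [hi.1]; exact one_mem _⟩ : d ∈ mind_sq V _ hVO hc)) (niv d hi)
    · exact fun v hv => (e.ge hv).2
  left
  refine ⟨fun hs => ?_, by_contra fun hr => ?_⟩
  · rcases hm (⁅V, V⁆ ⊔ Oppof 2 Q) le_sup_right (sup_le (commutator_le_self V) h1.le)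
      ((le_inf ((le_inf h3 h3).trans (H44.normalizer_inf_le_normalizer_commutator V V)) hnO).trans
        (normalizer_inf_normalizer_le_normalizer_sup _ _)) with e | e
    · exact hc fun x hx y hy => e.le (mem_sup_left (commutator_mem_commutator hx hy))
    · exact h1.not_ge (mind_perf hVO hs e.ge)
  · obtain ⟨z, hz, hzi, hzc⟩ := mind_bs hd hi hr
    have hle : Oppof 2 V ≤ Oppof 2 Q :=
      mind_le ((H44.Oppof_le V).trans hVQ) ((hQ.trans h3).trans (mind_norm V)) (mind_odd V)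
    rcases hm (tools_cs V _ hVO V) (fun o ho => ⟨h1.le ho, fun b hb => by
        rw [commutatorElement_def, mul_assoc, mul_assoc, ← mul_assoc b]
        exact mul_mem ho (COMP.conj_mem (hVO hb) (inv_mem ho))⟩) (fun _ h => h.1)
      (le_normalizer_iff.2 fun g hg x hx => ⟨COMP.conj_mem (h3 hg) hx.1, fun b hb => by
        have e : ⁅g * x * g⁻¹, b⁆ = g * ⁅x, g⁻¹ * b * g⁆ * g⁻¹ := by
          simp only [commutatorElement_def]; group
        rw [e]; exact COMP.conj_mem (hnO hg) (hx.2 _ (COMP.conj_mem' (h3 hg) hb))⟩) with e | e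
    · exact niv z hzi (e ▸ (⟨hz, fun b hb => hle (hzc b hb)⟩ : z ∈ tools_cs V _ hVO V))
    · exact hc fun x hx y hy => (e.ge hx).2 y hy

/-- Transport of an invariant subgroup to a family. -/
theorem exists_fam [IsPretransitive G Ω] {α : Ω} {V₀ : Subgroup G}
    (h : stabilizer G α ≤ normalizer (V₀ : Set G)) :
    ∃ V : Ω → Subgroup G, Eqv V ∧ V α = V₀ := by
  choose g hg using fun γ => exists_smul_eq G α γ
  refine ⟨fun γ => cj (g γ) V₀, fun k γ => ?_, COMP.mem_norm_iff.1 (h (hg α))⟩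
  have h1 : (g (k • γ))⁻¹ * (k * g γ) ∈ stabilizer G α := by
    rw [mem_stabilizer_iff, mul_smul, mul_smul, hg, inv_smul_eq_iff, hg]
  show cj (g (k • γ)) V₀ = cj k (cj (g γ) V₀)
  conv_lhs => rw [← COMP.mem_norm_iff.1 (h h1)]
  rw [cj_cj, cj_cj, mul_inv_cancel_left]

theorem eqv_Oppof {Q : Ω → Subgroup G} (h : Eqv Q) : Eqv fun α => Oppof 2 (Q α) := fun g α => by
  show Oppof 2 (Q (g • α)) = cj g (Oppof 2 (Q α))
  rw [h]
  exact (H44.map_pPrimeCoreOf_inj _ (MulAut.conj g).injective _).symm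

/-- Construction of NS. -/
theorem ns_of [IsPretransitive G Ω] {Q : Ω → Subgroup G} (h : TI Q)
    (hl : ∀ α β, Lk Q α β → Q α ≤ stabilizer G β ∧ Q β ≤ stabilizer G α) {α : Ω} {V₀ : Subgroup G}
    (h1 : Oppof 2 (Q α) ≤ V₀) (h2 : V₀ ≤ Q α) (hn : stabilizer G α ≤ normalizer (V₀ : Set G))
    (hmin : ∀ W, Oppof 2 (Q α) ≤ W → W ≤ V₀ → stabilizer G α ≤ normalizer (W : Set G) →
      W = Oppof 2 (Q α) ∨ W = V₀)
    (hc : (¬ Group.IsSolvable V₀ ∧ Rank2 V₀) ∨ ((∀ v ∈ V₀, v * v ∈ Oppof 2 (Q α)) ∧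
      ∃ R, SylIn 2 R (Q α) ∧ ∃ x ∈ R, ∃ v ∈ V₀, v ∈ R ∧ x * v ≠ v * x)) :
    ∃ V, NS (fun γ => Oppof 2 (Q γ)) V Q := by
  obtain ⟨V, eV, rfl⟩ := exists_fam hn
  have eO := eqv_Oppof h.eqv
  have hQO : Q α ≤ normalizer ((Oppof 2 (Q α) : Subgroup G) : Set G) :=
    le_normalizer.trans (mind_norm _)
  have sq : ∀ R : Subgroup G, IsPGroup 2 R → (∀ v ∈ V α, v * v ∈ Oppof 2 (Q α)) →
      El (V α ⊓ R) := fun R hR hs y hy =>
    two_odd_eq_one (mind_odd _) (hs y hy.1) (Two.of_mem hR (R.mul_mem hy.2 hy.2))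
  have vc : ∀ v ∈ V α, v ∈ Cm Q (fun γ => Oppof 2 (Q γ)) α → v * v = 1 → v = 1 := by
    intro v hv hv' e
    rcases hmin (V α ⊓ Cm Q (fun γ => Oppof 2 (Q γ)) α) (le_inf h1 fun o ho => (mem_Cm eO).2
        ⟨h.fix α (H44.Oppof_le _ ho), fun x hx => by
          rw [commutatorElement_def, mul_assoc (x * o), ← mul_assoc]
          exact mul_mem (COMP.conj_mem (hQO hx) ho) (inv_mem ho)⟩) inf_le_left
      (COMP.le_normalizer_inf hn ((eqv_Cm h.eqv eO).stab_le α)) with e' | e'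
    · exact two_odd_eq_one (mind_odd _) (e'.le ⟨hv, hv'⟩) (Two.of_sq e)
    · have hle : ∀ x ∈ Q α, ∀ y ∈ V α, ⁅x, y⁆ ∈ Oppof 2 (Q α) := fun x hx y hy =>
        (e'.ge hy).2.2.2 x hx
      rcases hc with ⟨hs, -⟩ | ⟨-, R, hR, x, hx, w, hw, hwR, hne⟩
      · obtain ⟨P, hP, -⟩ := H42.exists_sylIn (p := 2) IsPGroup.of_bot (bot_le (a := V α))
        exact absurd (solv_of_central hP (mind_odd _) (h2.trans hQO)
          fun x hx y hy => hle x (h2 hx) y (hP.le hy)) hs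
      · refine absurd (commutatorElement_eq_one_iff_mul_comm.1 (two_odd_eq_one (mind_odd _)
          (hle x (hR.le hx) w hw) (Two.of_mem hR.isP ?_))) hne
        exact mul_mem (mul_mem (mul_mem hx hwR) (inv_mem hx)) (inv_mem hwR)
  refine ⟨V, h, eO, eV, fun γ => ?_, fun γ => ?_, fun γ => mind_odd _, fun γ β hk g hg => ?_,
    fun γ v hv hv' e => ?_, fun γ => ?_, fun γ => ?_⟩
  · obtain ⟨g, rfl⟩ := exists_smul_eq G α γ
    rw [eV]
    exact (eO g α).le.trans (H42.cj_mono g h1)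
  · obtain ⟨g, rfl⟩ := exists_smul_eq G α γ
    rw [h.eqv, eV]
    exact H42.cj_mono g h2
  · obtain ⟨a, b⟩ := hl β γ hk
    refine (mem_Cm eO).2 ⟨b hg, fun x hx => ?_⟩
    refine mind_le (N := Q γ ⊓ Q β) inf_le_right
      (COMP.le_normalizer_inf (a.trans (h.eqv.stab_le γ)) le_normalizer)
      (odd_of_no_iv fun y hy e => h.ti _ _ hk.1 y hy.2 hy.1 e) ⟨?_, ?_⟩
    · exact (Q γ).mul_mem (h.eqv.conj_mem' (a hx) hg) ((Q γ).inv_mem hg)
    · have e : ⁅x, g⁆ = x * (g * x⁻¹ * g⁻¹) := by simp only [commutatorElement_def]; group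
      rw [e]
      exact (Q β).mul_mem hx (h.eqv.conj_mem' (b hg) ((Q β).inv_mem hx))
  · obtain ⟨g, rfl⟩ := exists_smul_eq G α γ
    rw [eV, mem_cj] at hv
    rw [eqv_Cm h.eqv eO, mem_cj] at hv'
    have := vc _ hv hv' (by
      calc _ = g⁻¹ * (v * v) * g := by group
        _ = 1 := by rw [e]; group)
    calc v = g * (g⁻¹ * v * g) * g⁻¹ := by group
      _ = 1 := by rw [this]; group
  · obtain ⟨g, rfl⟩ := exists_smul_eq G α γ
    rw [eV]
    refine CORE.rank2_cj ?_ g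
    rcases hc with ⟨-, hr⟩ | ⟨hs, R, hR, x, hx, w, hw, hwR, hne⟩
    · exact hr
    · have hE := sq R hR.isP hs
      have hw' : w ∈ V α ⊓ R := ⟨hw, hwR⟩
      have hx' : x * w * x⁻¹ ∈ V α ⊓ R := ⟨eV.conj_mem' (h.fix α (hR.le hx)) hw,
        R.mul_mem (R.mul_mem hx hwR) (R.inv_mem hx)⟩
      have hi : Iv w := ⟨hE w hw', fun e => hne (by rw [e]; group)⟩
      exact ⟨w, hw, _, hx'.1, hi.2, (hi.conj x).2, fun e => hne (by
        conv_rhs => rw [e]
        group), hi.1, (hi.conj x).1, hE.ab _ hw' _ hx'⟩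
  · obtain ⟨g, rfl⟩ := exists_smul_eq G α γ
    rcases hc with ⟨hs, -⟩ | ⟨hs, R, hR, x, hx, w, hw, hwR, hne⟩
    · refine Or.inl fun hs' => hs ?_
      rw [h.eqv] at hs'
      exact Group.isSolvable_of_isSolvable_injective
        (f := (H42.cjEquiv g (Q α)).toMonoidHom.comp (inclusion h2))
        ((H42.cjEquiv g (Q α)).injective.comp (inclusion_injective h2))
    · have hi : Iv w := ⟨sq R hR.isP hs w ⟨hw, hwR⟩, fun e => hne (by rw [e]; group)⟩
      refine Or.inr ⟨_, h.eqv.conj_mem (hR.le hx) g, _, eV.conj_mem hw g, hi.conj g,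
        (H42.isPGroup_cj g hR.isP).to_le ?_, fun e => hne ?_⟩
      · rw [closure_le]
        rintro y (rfl | rfl)
        exacts [conj_mem_cj hx, conj_mem_cj hwR]
      · calc x * w = g⁻¹ * (g * x * g⁻¹ * (g * w * g⁻¹)) * g := by group
          _ = w * x := by rw [e]; group

end Cfsg.Agent.TE
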