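import Cfsg.Agent.TE.Tools

/-! Weak closure calculus (project TE, notes/TE.md section WC). -/

set_option autoImplicit false

namespace Cfsg.Agent.TE

open Subgroup MulAction
open scoped commutatorElement
open Cfsg.Agent.H42 (SylIn cj mem_cj conj_mem_cj conj_mem_cj_iff cj_cj cj_inv_cj cj_cj_inv)
open Cfsg.Agent.H44 (QS Oppof)
open Cfsg.Agent.SUZ (Rank2)
open Cfsg.Agent.COMP (Two)

universe u v

variable {G : Type u} {Ω : Type v} [Group G] [Finite G] [MulAction G Ω]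

variable {𝒢 : Set G} {S E E₀ E₁ P : Subgroup G}

omit [Finite G] in
theorem EE_le (𝒢 : Set G) (P : Subgroup G) : EE 𝒢 P ≤ P := (closure_le _).2 fun _ h => h.2

omit [Finite G] in
theorem mem_EE {x : G} (h : x ∈ 𝒢) (hx : x ∈ P) : x ∈ EE 𝒢 P := subset_closure ⟨h, hx⟩

omit [Finite G] in
theorem EE_cent {b : G} (h : ∀ x ∈ 𝒢, x ∈ P → x * b = b * x) : ∀ x ∈ EE 𝒢 P, x * b = b * x :=
  fun _ hx => COMP.mem_c1.1 ((closure_le _).2 (fun x hx => COMP.mem_c1.2 (h x hx.1 hx.2)) hx)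

omit [Finite G] in
theorem IsE.isP (hE : IsE 𝒢 E) : IsPGroup 2 E := by
  obtain ⟨S, hS, rfl⟩ := hE
  exact hS.isP.to_le (EE_le _ _)

set_option linter.unusedSectionVars false

omit [MulAction G Ω] in
theorem WC.ab (h : WC 𝒢) (hP : IsPGroup 2 P) : Ab (EE 𝒢 P) := fun x hx _ hy =>
  EE_cent (fun a ha haP => (EE_cent (fun b hb hbP => h.comm P hP b hb a ha hbP haP) _ hy).symm) x hx

theorem WC.ab' (h : WC 𝒢) (hE : IsE 𝒢 E) : Ab E := by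
  obtain ⟨S, hS, rfl⟩ := hE
  exact h.ab hS.isP

theorem WC.cj_EE (h : WC 𝒢) (g : G) (S : Subgroup G) : H42.cj g (EE 𝒢 S) = EE 𝒢 (H42.cj g S) := by
  have key : ∀ (g : G) (S : Subgroup G), H42.cj g (EE 𝒢 S) ≤ EE 𝒢 (H42.cj g S) := fun g S =>
    map_le_iff_le_comap.2 ((closure_le _).2 fun x hx => mem_EE (h.conj x hx.1 g) (conj_mem_cj hx.2))
  refine (key g S).antisymm ?_
  simpa only [cj_inv_cj, cj_cj_inv] using H42.cj_mono g (key g⁻¹ (H42.cj g S))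

theorem wc_syl_cj (hS : SylIn 2 S ⊤) (g : G) : SylIn 2 (cj g S) ⊤ :=
  H42.cj_of_mem (mem_top g) ▸ hS.cj g

omit [MulAction G Ω] in
theorem WC.cj (h : WC 𝒢) (hE : IsE 𝒢 E) (g : G) : IsE 𝒢 (cj g E) := by
  obtain ⟨S, hS, rfl⟩ := hE
  exact ⟨_, wc_syl_cj hS g, h.cj_EE g S⟩

omit [MulAction G Ω] in
theorem WC.card (h : WC 𝒢) (h0 : IsE 𝒢 E₀) (h1 : IsE 𝒢 E₁) : Nat.card E₀ = Nat.card E₁ := by
  obtain ⟨S, hS, rfl⟩ := h0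
  obtain ⟨T, hT, rfl⟩ := h1
  obtain ⟨g, -, e⟩ := hS.exists_conj hT.isP le_top
  rw [(wc_syl_cj hT g).eq_of_le hS.isP le_top (H42.cj_le_iff.2 e), ← h.cj_EE, H42.card_cj]

omit [MulAction G Ω] in
theorem WC.eq_of_le (h : WC 𝒢) (hE : IsE 𝒢 E) (hS : SylIn 2 S ⊤) (hle : E ≤ S) : EE 𝒢 S = E := by
  refine (eq_of_le_of_card_ge ?_ (h.card ⟨S, hS, rfl⟩ hE).le).symm
  obtain ⟨T, -, rfl⟩ := hE
  exact (closure_le _).2 fun x hx => mem_EE hx.1 (hle (mem_EE hx.1 hx.2))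

omit [MulAction G Ω] in
theorem WC.norm (h : WC 𝒢) (S : Subgroup G) :
    normalizer (S : Set G) ≤ normalizer (EE 𝒢 S : Set G) := fun g hg =>
  COMP.mem_norm_iff.2 (by rw [h.cj_EE, COMP.mem_norm_iff.1 hg])

omit [MulAction G Ω] in
theorem WC.exists_syl (h : WC 𝒢) (hE : IsE 𝒢 E) (hP : IsPGroup 2 P)
    (hn : P ≤ normalizer (E : Set G)) : ∃ S, SylIn 2 S ⊤ ∧ P ≤ S ∧ E ≤ S ∧ EE 𝒢 S = E := by
  obtain ⟨S, hS, e⟩ := H42.exists_sylIn (COMP.isP_sup hE.isP hP hn) le_top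
  exact ⟨S, hS, le_sup_right.trans e, le_sup_left.trans e, h.eq_of_le hE hS (le_sup_left.trans e)⟩

theorem WC.exists_in (h : WC 𝒢) (h1 : IsE 𝒢 E₁) {Y : Subgroup G} (hY : E₁ ≤ Y) (hP : IsPGroup 2 P)
    (hn : P ≤ Y) : ∃ S, SylIn 2 S ⊤ ∧ P ≤ S ∧ ∃ c ∈ Y, EE 𝒢 S = H42.cj c E₁ := by
  obtain ⟨T, hT, e⟩ := H42.exists_sylIn hP hn
  obtain ⟨c, hc, e1⟩ := hT.exists_conj h1.isP hY
  obtain ⟨S, hS, e2⟩ := H42.exists_sylIn hT.isP le_top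
  exact ⟨S, hS, e.trans e2, c, hc, h.eq_of_le (h.cj h1 c) hS ((H42.cj_le_iff.2 e1).trans e2)⟩

omit [MulAction G Ω] in
theorem WC.mem_of_cent (h : WC 𝒢) (h0 : IsE 𝒢 E₀) (h1 : IsE 𝒢 E₁) {b : G} (hb : b ∈ E₁)
    (hc : ∀ x ∈ E₀, x * b = b * x) : b ∈ E₀ := by
  obtain ⟨S, hS, e, c, h2, e1⟩ := h.exists_in h1 (Y := centralizer {b})
    (fun x hx => COMP.mem_c1.2 (h.ab' h1 x hx b hb)) h0.isP fun x hx => COMP.mem_c1.2 (hc x hx)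
  rw [← h.eq_of_le h0 hS e, e1, mem_cj, mul_assoc, ← COMP.mem_c1.1 h2, inv_mul_cancel_left]
  exact hb

omit [MulAction G Ω] in
theorem WC.exists_E (h : WC 𝒢) (h1 : IsE 𝒢 E₁) {J : Subgroup G} (hJ : J ≤ E₁) (hP : IsPGroup 2 P)
    (hn : P ≤ normalizer (J : Set G)) : ∃ S, SylIn 2 S ⊤ ∧ P ≤ S ∧ J ≤ EE 𝒢 S := by
  obtain ⟨S, hS, e, c, h2, e1⟩ := h.exists_in h1
    (Cc.le_norm fun x hx y hy => h.ab' h1 x hx y (hJ hy)) hP hn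
  exact ⟨S, hS, e, e1 ▸ (COMP.mem_norm_iff.1 h2).ge.trans (H42.cj_mono c hJ)⟩

omit [MulAction G Ω] in
theorem WC.scl (h : WC 𝒢) (hb : ∀ E₀ E₁, IsE 𝒢 E₀ → IsE 𝒢 E₁ → ∀ b ∈ E₁,
    b ∈ normalizer (E₀ : Set G) → b ∈ E₀) (hS : SylIn 2 S ⊤) : SCl ⊤ (EE 𝒢 S) S := fun _ hx g _ e =>
  hb _ _ ⟨S, hS, rfl⟩ (h.cj ⟨S, hS, rfl⟩ g) _ (conj_mem_cj hx) (h.norm S (le_normalizer e))

/-- `d` normalizes `I ⟨b⟩`. -/
theorem wc_norm {I : Subgroup G} {d b : G} (h1 : d ∈ normalizer (I : Set G)) (h2 : ⁅d, b⁆ ∈ I) :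
    d ∈ normalizer ((I ⊔ zpowers b : Subgroup G) : Set G) :=
  H42.mem_normalizer_of_conj_mem (H42.cj_le_iff.1 (by
    rw [H42.cj_sup, COMP.mem_norm_iff.1 h1, H42.cj, MonoidHom.map_zpowers]
    refine sup_le le_sup_left (zpowers_le.2 ?_)
    simpa [commutatorElement_def] using mul_mem_sup h2 (mem_zpowers b)))

theorem Ab.el (h : Ab (EE 𝒢 P)) (h2 : ∀ d ∈ 𝒢, d * d = 1) : El (EE 𝒢 P) := fun x hx => by
  induction hx using closure_induction with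
  | mem x hx => exact h2 x hx.1
  | one => exact one_mul 1
  | mul x y hx hy e e' => exact COMP.sq_mul e e' (h x hx y hy)
  | inv x _ e => rwa [COMP.inv_of_sq e]

omit [MulAction G Ω] in
/-- Abstract form of `SC~`. -/
theorem sct {𝒟 𝒟' : Set G} (hle : 𝒟 ⊆ 𝒟') (h2 : ∀ d ∈ 𝒟', Iv d)
    (c1 : ∀ x ∈ 𝒟, ∀ g : G, g * x * g⁻¹ ∈ 𝒟)
    (cm : ∀ d ∈ 𝒟', ∀ s ∈ 𝒟, Two (d * s) → d * s = s * d)
    (geo : ∀ E₀ E₁, IsE 𝒟 E₀ → IsE 𝒟 E₁ → ∀ b ∈ E₁, b ∈ normalizer (E₀ : Set G) → ∀ s ∈ 𝒟,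
      s ∈ E₀ → b * s ≠ s * b → ∃ s₁ ∈ 𝒟, s₁ ∈ E₀ ∧ s₁ * (b * s₁ * b⁻¹) ∈ 𝒟')
    (hS : SylIn 2 S ⊤) : WC 𝒟 ∧ SCl ⊤ (EE 𝒟 S) S := by
  have h : WC 𝒟 := ⟨c1, fun P hP x hx y hy h1 h3 => cm x (hle hx) y hy (Two.of_mem hP (mul_mem h1 h3))⟩
  refine ⟨h, h.scl (fun E₀ E₁ => ?_) hS⟩
  generalize hI : E₀ ⊓ E₁ = I
  induction I using WellFoundedGT.induction generalizing E₁ with | ind I ih => ?_
  subst hI
  intro h0 h1 b hb hn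
  by_contra hne
  have K : ∀ d ∈ 𝒟', d ∈ E₀ → ⁅d, b⁆ ∈ E₀ ⊓ E₁ → d ∈ E₁ := fun d hd hE hc => by
    obtain ⟨S, hS, e1, e2⟩ := h.exists_E h1 (sup_le inf_le_right (zpowers_le.2 hb)) (h2 d hd).two.isP
      (zpowers_le.2 (wc_norm (centralizer_le_normalizer _ fun x hx => h.ab' h0 x hx.1 d hE) hc))
    have h3 := h.mem_of_cent ⟨S, hS, rfl⟩ h0 hE (EE_cent fun x hx hxS =>
      (cm d hd x hx (Two.of_mem hS.isP (mul_mem (e1 (mem_zpowers d)) hxS))).symm)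
    exact by_contra fun h4 => hne (ih _ (lt_of_le_not_ge (le_inf inf_le_left (le_sup_left.trans e2))
      fun e => h4 (e ⟨hE, h3⟩).2) _ rfl h0 ⟨S, hS, rfl⟩ b (e2 (mem_sup_right (mem_zpowers b))) hn)
  have b2 : b * b = 1 := by
    obtain ⟨T, hT, rfl⟩ := h1
    exact (h.ab hT.isP).el (fun d hd => (h2 d (hle hd)).1) b hb
  obtain ⟨s, hs, h3, h4⟩ : ∃ s ∈ 𝒟, s ∈ E₀ ∧ b * s ≠ s * b := by
    by_contra! h3
    obtain ⟨T, hT, rfl⟩ := h0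
    exact hne (h.mem_of_cent ⟨T, hT, rfl⟩ h1 hb (EE_cent fun x hx e => (h3 x hx (mem_EE hx e)).symm))
  obtain ⟨t, ht, h5, h6⟩ := geo _ _ h0 h1 b hb hn s hs h3 h4
  have h7 := COMP.conj_mem hn h5
  have h8 := K _ h6 (mul_mem h5 h7) (by
    rw [commutatorElement_eq_one_iff_mul_comm.2 ?_]
    · exact one_mem _
    calc t * (b * t * b⁻¹) * b = b * b * t * b * t := by rw [b2]; group
      _ = b * (b * t * b⁻¹ * t) := by rw [COMP.inv_of_sq b2]; group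
      _ = _ := by rw [h.ab' h0 t h5 _ h7])
  have h9 := K t (hle ht) h5 ⟨by
    rw [commutatorElement_def, (h2 t (hle ht)).inv, mul_assoc, mul_assoc, ← mul_assoc b]; exact mul_mem h5 h7, by
    rwa [commutatorElement_def, (h2 t (hle ht)).inv, mul_assoc, mul_assoc, ← mul_assoc b]⟩
  exact (h2 _ h6).2 (by rw [h.ab' h1 b hb t h9, mul_inv_cancel_right, (h2 t (hle ht)).1])

end Cfsg.Agent.TE
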