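import Cfsg.Agent.TE.Tools

set_option autoImplicit false
set_option linter.unusedVariables false
set_option linter.unusedSectionVars false

namespace Cfsg.Agent.TE

open Subgroup MulAction
open scoped commutatorElement
open Cfsg.Agent.H42 (SylIn cj mem_cj conj_mem_cj conj_mem_cj_iff cj_cj cj_inv_cj cj_cj_inv)
open Cfsg.Agent.H44 (QS Oppof)
open Cfsg.Agent.SUZ (Rank2)
open Cfsg.Agent.COMP (Two)

universe u v

variable {G : Type u} {Ω : Type v} [Group G] [Finite G] [MulAction G Ω]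

variable {K : Ω → Subgroup G} {α β : Ω} {U T R : Subgroup G}

theorem Lk.symm (h : TI K) (hl : Lk K α β) {d : G} (hd : d ∈ K α) (hi : Iv d) : Lk K β α := by
  obtain ⟨hne, t, ht, it, e⟩ := hl
  obtain ⟨x, hx, x1, x2, c⟩ := COMP.exists_fix1 it.two (h.eqv.norm e) hd hi.2 hi.1
  exact ⟨hne.symm, x, hx, ⟨x2, x1⟩, h.fix_of_comm ht it.two it.2 c.symm⟩

theorem exists_LD (h : TI K) (hne : α ≠ β) {P : Subgroup G} (hP : IsPGroup 2 P) (h1 : P ≠ ⊥)
    (hle : P ≤ K β ⊓ stabilizer G α) : ∃ T R, LD K α β T R ∧ P ≤ T := by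
  obtain ⟨T, hT, l⟩ := H42.exists_sylIn hP hle
  obtain ⟨R, hR, n, -⟩ := COMP.exists_inv_syl hT.isP ((hT.le.trans inf_le_right).trans (h.eqv.stab_le α))
  exact ⟨T, R, ⟨hne, hT, fun e => h1 (le_bot_iff.1 (e ▸ l)), hR, n⟩, l⟩

theorem Lk.exists_LD (h : TI K) (hl : Lk K α β) : ∃ T R, LD K α β T R := by
  obtain ⟨hne, t, ht, it, e⟩ := hl
  obtain ⟨T, R, d, -⟩ := TE.exists_LD h hne it.two.isP (zpowers_ne_bot.2 it.2) (zpowers_le.2 (mem_inf.2 ⟨ht, e⟩))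
  exact ⟨T, R, d⟩

theorem LD.cc (h : TI K) (d : LD K α β T R) : Cc T (R ⊓ stabilizer G β) := fun t ht u hu => by
  have h1 : ⁅t, u⁆ ∈ R := mul_mem (COMP.conj_mem (d.norm ht) hu.1) (inv_mem (mem_inf.1 hu).1)
  exact commutatorElement_eq_one_iff_mul_comm.1 (h.eq_one d.ne (d.sylR.le h1)
    (tools_br (h.eqv.norm hu.2) (d.sylT.le ht).1) (Two.of_mem d.sylR.isP h1))

theorem LD.disj (h : TI K) (d : LD K α β T R) : ∀ x ∈ T, x ∈ K α → x = 1 := fun x hx h1 =>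
  h.eq_one d.ne h1 (d.sylT.le hx).1 (Two.of_mem d.sylT.isP hx)

theorem LD.cent (h : TI K) (d : LD K α β T R) {s x : G} (hs : s ∈ T) (h1 : s ≠ 1) (hx : x ∈ R) :
    x * s = s * x ↔ x • β = β :=
  ⟨h.fix_of_comm (d.sylT.le hs).1 (Two.of_mem d.sylT.isP hs) h1, fun e => (d.cc h s hs x ⟨hx, e⟩).symm⟩

theorem LD.odd_le (h : TI K) (d : LD K α β T R) (h2 : Rank2 T) {X : Subgroup G}
    (hX : Odd (Nat.card X)) (hn : T ≤ normalizer (X : Set G)) : X ≤ stabilizer G β :=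
  odd_le_of_rank2 hX d.sylT.isP h2 hn fun e he ie x _ c => h.fix_of_comm (d.sylT.le he).1 ie.two ie.2 c

theorem NF.link_le (d : NF K α β U T R) : U ≤ R := d.eqU ▸ inf_le_left

theorem NF.link_cc (h : TI K) (d : NF K α β U T R) : Cc T U := d.eqU ▸ d.toLD.cc h

theorem NF.link_inf (h : TI K) (d : NF K α β U T R) : (U ⊔ T) ⊓ K α = U ∧ (U ⊔ T) ⊓ K β = T := by
  have h1 : U ≤ K α := d.link_le.trans d.sylR.le
  have h2 : T ≤ K β := d.sylT.le.trans inf_le_left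
  refine ⟨le_antisymm (fun w hw => ?_) (le_inf le_sup_left h1), le_antisymm (fun w hw => ?_) (le_inf le_sup_right h2)⟩ <;>
    obtain ⟨u, hu, t, ht, rfl⟩ := H42.exists_mul_of_mem_sup (d.link_cc h).symm.le_norm hw.1
  · rwa [d.toLD.disj h t ht ((Subgroup.mul_mem_cancel_left _ (h1 hu)).1 hw.2), mul_one]
  · rwa [h.eq_one d.ne (h1 hu) ((Subgroup.mul_mem_cancel_right _ (h2 ht)).1 hw.2)
      (Two.of_mem d.sylR.isP (d.link_le hu)), one_mul]

theorem NF.exists_x (h : TI K) (d : NF K α β U T R) :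
    ∃ x ∈ R, x ∉ U ∧ x ∈ normalizer ((U ⊔ T : Subgroup G) : Set G) ∧ x * x ∈ U := by
  obtain ⟨x, hx, nx, h1, h2, h3⟩ := COMP.exists_growth d.sylR.isP d.sylT.isP d.link_le d.nf d.norm (d.link_cc h).le_norm
  refine ⟨x, hx, nx, H42.mem_normalizer_of_conj_mem fun w hw => ?_, h2⟩
  obtain ⟨u, hu, t, ht, rfl⟩ := H42.exists_mul_of_mem_sup (d.link_cc h).symm.le_norm hw
  rw [show x * (u * t) * x⁻¹ = x * u * x⁻¹ * (x * t * x⁻¹ * t⁻¹) * t by group]
  exact mul_mem_sup (mul_mem (COMP.conj_mem h1 hu) (h3 t ht)) ht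

theorem NF.br (h : TI K) (d : NF K α β U T R) {x t : G} (hx : x ∈ K α)
    (hn : x ∈ normalizer ((U ⊔ T : Subgroup G) : Set G)) (ht : t ∈ T) : ⁅x, t⁆ ∈ U := by
  rw [← (d.link_inf h).1]
  refine mem_inf.2 ⟨mul_mem (COMP.conj_mem hn (mem_sup_right ht)) (inv_mem (mem_sup_right ht)), ?_⟩
  exact tools_br (h.eqv.norm (d.sylT.le ht).2) hx

theorem NF.inf (h : TI K) (d : NF K α β U T R) :
    (U ⊔ T) ⊓ K α = U ∧ (U ⊔ T) ⊓ K β = T := d.link_inf h

theorem NF.link_hom (h : TI K) (d : NF K α β U T R) {x : G} (hx : x ∈ R) (hU : x ∉ U)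
    (hn : x ∈ normalizer ((U ⊔ T : Subgroup G) : Set G)) :
    ∃ φ : T →* U, Function.Injective φ ∧ ∀ t, (φ t : G) = ⁅x, (t : G)⁆ := by
  have h1 := fun t : T => d.br h (d.sylR.le hx) hn t.2
  refine ⟨MonoidHom.mk' (fun t => ⟨_, h1 t⟩) fun a b => Subtype.ext ?_, (injective_iff_map_eq_one _).2 fun t e => ?_,
    fun _ => rfl⟩
  · calc ⁅x, (a : G) * b⁆ = ⁅x, (a : G)⁆ * (a * ⁅x, (b : G)⁆) * (a : G)⁻¹ := by simp only [commutatorElement_def]; group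
      _ = ⁅x, (a : G)⁆ * ⁅x, (b : G)⁆ := by rw [d.link_cc h a a.2 _ (h1 b)]; group
  · by_contra n
    exact hU (d.eqU ▸ ⟨hx, (d.toLD.cent h t.2 (fun q => n (Subtype.ext q)) hx).1
      (commutatorElement_eq_one_iff_mul_comm.1 (congrArg Subtype.val e))⟩)

omit [MulAction G Ω] in
theorem link_card_le {P H : Subgroup G} (h : SylIn 2 P H) (hR : IsPGroup 2 R) (hle : R ≤ H) :
    Nat.card R ≤ Nat.card P := by
  obtain ⟨g, -, hg⟩ := h.exists_conj hR hle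
  rw [← H42.card_cj g R]
  exact card_le_of_le (H42.cj_le_iff.2 hg)

variable [IsPretransitive G Ω]

theorem link_card (h : TI K) {R' : Subgroup G} (h1 : SylIn 2 R (K α)) (h2 : SylIn 2 R' (K β)) :
    Nat.card R = Nat.card R' := by
  obtain ⟨g, rfl⟩ := exists_smul_eq G α β
  rw [h.eqv] at h2
  rw [h2.card_eq (h1.cj g), H42.card_cj]

theorem LD.link_le (h : TI K) (d : LD K α β T R) : Nat.card T ≤ Nat.card (R ⊓ stabilizer G β : Subgroup G) := by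
  by_cases e : R ⊓ stabilizer G β = R
  · obtain ⟨R', h1, h2⟩ := H42.exists_sylIn d.sylT.isP (d.sylT.le.trans inf_le_left)
    rw [e, link_card h d.sylR h1]
    exact card_le_of_le h2
  · have d' : NF K α β _ T R := ⟨d, rfl, e⟩
    obtain ⟨x, hx, nx, hn, -⟩ := d'.exists_x h
    obtain ⟨φ, i, -⟩ := d'.link_hom h hx nx hn
    exact Nat.card_le_card_of_injective φ i

theorem LD.link_syl (h : TI K) (d : LD K α β T R) : SylIn 2 (R ⊓ stabilizer G β) (K α ⊓ stabilizer G β) ∧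
    Nat.card T = Nat.card (R ⊓ stabilizer G β : Subgroup G) := by
  have h1 := d.link_le h
  obtain ⟨T1, R1, d1, l⟩ := exists_LD h d.ne.symm d.sylR.isP.to_inf_left (fun e => d.neT (by
    rw [e, card_bot] at h1
    exact card_le_one_iff_eq_bot _ |>.1 h1)) (inf_le_inf_right _ d.sylR.le)
  have h2 := (d1.link_le h).trans (link_card_le d.sylT d1.sylR.isP.to_inf_left (inf_le_inf_right _ d1.sylR.le))
  exact ⟨(eq_of_le_of_card_ge l (h2.trans h1)).symm ▸ d1.sylT, le_antisymm h1 ((card_le_of_le l).trans h2)⟩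

theorem LD.link_full (h : TI K) (d : LD K α β T R) (hf : R ≤ stabilizer G β) : SylIn 2 T (K β) := by
  obtain ⟨R', h1, h2⟩ := H42.exists_sylIn d.sylT.isP (d.sylT.le.trans inf_le_left)
  rwa [eq_of_le_of_card_ge h2 (by rw [(d.link_syl h).2, inf_eq_left.2 hf, link_card h d.sylR h1])]

theorem NF.link_surj (h : TI K) (d : NF K α β U T R) {x : G} (hx : x ∈ R) (hU : x ∉ U)
    (hn : x ∈ normalizer ((U ⊔ T : Subgroup G) : Set G)) {u : G} (hu : u ∈ U) : ∃ t ∈ T, ⁅x, t⁆ = u := by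
  obtain ⟨φ, i, e⟩ := d.link_hom h hx hU hn
  obtain ⟨t, ht⟩ := ((Nat.bijective_iff_injective_and_card φ).2 ⟨i, d.eqU ▸ (d.toLD.link_syl h).2⟩).2 ⟨u, hu⟩
  exact ⟨t, t.2, by rw [← e, ht]⟩

theorem LD.iso (h : TI K) (d : LD K α β T R) :
    Nonempty (T ≃* (R ⊓ stabilizer G β : Subgroup G)) := by
  by_cases e : R ⊓ stabilizer G β = R
  · obtain ⟨g, rfl⟩ := exists_smul_eq G α β
    have h1 := d.link_full h (inf_eq_left.1 e)
    have h2 := d.sylR.cj g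
    rw [← h.eqv] at h2
    obtain ⟨k, -, hk⟩ := h1.exists_conj h2.isP h2.le
    have h3 : H42.cj k (H42.cj g R) = T := eq_of_le_of_card_ge (H42.cj_le_iff.2 hk)
      (by rw [H42.card_cj, h1.card_eq h2])
    rw [e, ← h3]
    exact ⟨((H42.cjEquiv g R).trans (H42.cjEquiv k _)).symm⟩
  · have d' : NF K α β _ T R := ⟨d, rfl, e⟩
    obtain ⟨x, hx, nx, hn, -⟩ := d'.exists_x h
    obtain ⟨φ, i, -⟩ := d'.link_hom h hx nx hn
    exact ⟨MulEquiv.ofBijective φ ((Nat.bijective_iff_injective_and_card φ).2 ⟨i, (d.link_syl h).2⟩)⟩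

theorem LD.syl (h : TI K) (d : LD K α β T R) :
    SylIn 2 (R ⊓ stabilizer G β) (K α ⊓ stabilizer G β) := (d.link_syl h).1

theorem LD.full_iff (h : TI K) (d : LD K α β T R) : R ≤ stabilizer G β ↔ Fl K α β := by
  refine ⟨fun l => ⟨T, d.link_full h l, d.sylT.le.trans inf_le_right⟩,
    fun ⟨R0, h1, h2⟩ => inf_eq_left.1 (eq_of_le_of_card_ge inf_le_left ?_)⟩
  rw [link_card h d.sylR h1, ← (d.link_syl h).2]
  exact link_card_le d.sylT h1.isP (le_inf h1.le h2)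

theorem LD.full (h : TI K) (d : LD K α β T R) (hf : Fl K α β) : SylIn 2 T (K β) ∧ Cc T R := by
  have h1 := (d.full_iff h).2 hf
  exact ⟨d.link_full h h1, fun t ht r hr => d.cc h t ht r ⟨hr, h1 hr⟩⟩

theorem Fl.symm (h : TI K) (hl : Lk K α β) (hf : Fl K α β) : Fl K β α := by
  obtain ⟨T, R, d⟩ := hl.exists_LD h
  exact ⟨R, d.sylR, (d.full_iff h).2 hf⟩

theorem LD.nf (h : TI K) (d : LD K α β T R) (hf : ¬ Fl K α β) :
    NF K α β (R ⊓ stabilizer G β) T R :=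
  ⟨d, rfl, fun e => hf ((d.full_iff h).1 (inf_eq_left.1 e))⟩

theorem NF.symm (h : TI K) (d : NF K α β U T R) : ∃ R', NF K β α T U R' := by
  obtain ⟨h1, h2⟩ := d.toLD.link_syl h
  rw [← d.eqU] at h1 h2
  obtain ⟨R', hR, n, l⟩ := COMP.exists_inv_syl (X := K β) (COMP.isP_sup h1.isP d.sylT.isP (d.link_cc h).le_norm)
    (sup_le ((h1.le.trans inf_le_right).trans (h.eqv.stab_le β)) ((d.sylT.le.trans inf_le_left).trans le_normalizer))
  rw [(d.inf h).2] at l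
  refine ⟨R', ⟨d.ne.symm, h1, fun e => d.neT ?_, hR, le_sup_left.trans n⟩,
    (d.sylT.eq_of_le hR.isP.to_inf_left (inf_le_inf_right _ hR.le)
      (le_inf l (d.sylT.le.trans inf_le_right))).symm, fun e => d.nf (eq_of_le_of_card_ge d.link_le ?_)⟩
  · rwa [e, card_bot, card_eq_one] at h2
  · rw [← h2, e, link_card h d.sylR hR]

theorem NF.ab (h : TI K) (d : NF K α β U T R) : Ab T ∧ Ab U := by
  obtain ⟨x, hx, nx, hn, -⟩ := d.exists_x h
  obtain ⟨φ, i, e⟩ := d.link_hom h hx nx hn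
  have h1 : Ab U := fun u hu v hv => by
    obtain ⟨t, ht, rfl⟩ := d.link_surj h hx nx hn hv
    have h2 : x⁻¹ * u * x ∈ U := (d.inf h).1 ▸ mem_inf.2 ⟨COMP.conj_mem' hn (mem_sup_left hu),
      mul_mem (mul_mem (inv_mem (d.sylR.le hx)) (d.sylR.le (d.link_le hu))) (d.sylR.le hx)⟩
    calc u * ⁅x, t⁆ = x * (x⁻¹ * u * x * t) * x⁻¹ * t⁻¹ := by rw [commutatorElement_def]; group
      _ = x * t * x⁻¹ * (u * t⁻¹) := by rw [← d.link_cc h t ht _ h2]; group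
      _ = _ := by rw [← d.link_cc h _ (inv_mem ht) u hu, commutatorElement_def]; group
  refine ⟨fun a ha b hb => congrArg Subtype.val (i (a₁ := ⟨a, ha⟩ * ⟨b, hb⟩) (a₂ := ⟨b, hb⟩ * ⟨a, ha⟩) ?_), h1⟩
  rw [map_mul, map_mul]
  exact Subtype.ext (h1 _ (φ _).2 _ (φ _).2)

theorem NF.surj (h : TI K) (d : NF K α β U T R) {x : G} (hx : x ∈ R) (hU : x ∉ U)
    (hn : x ∈ normalizer ((U ⊔ T : Subgroup G) : Set G)) {u : G} (hu : u ∈ U) :
    ∃ t ∈ T, ⁅x, t⁆ = u := d.link_surj h hx hU hn hu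

end Cfsg.Agent.TE
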